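import Groth.Agent.L05.SmoothCrit.Conormal
import Groth.Agent.L05.Kaehler.Tower
import Mathlib.RingTheory.Localization.Algebra
import Mathlib.RingTheory.Smooth.Locus
import Mathlib.RingTheory.Etale.Locus
import Mathlib.RingTheory.RingHom.Etale
import Mathlib.RingTheory.RingHom.Smooth
import Mathlib.RingTheory.Flat.Basic
import Mathlib.RingTheory.TensorProduct.Quotient
import Mathlib.LinearAlgebra.Dimension.OrzechProperty

/-!
A function with nonvanishing differential cuts out a smooth hypersurface.
-/

set_option autoImplicit false
set_option maxSynthPendingDepth 3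
set_option linter.style.haveILetI false
universe u

noncomputable section

namespace Groth.L24.SmoothDivisor

open KaehlerDifferential IsLocalRing
open scoped TensorProduct
open Groth.L05.SmoothCrit (dbar)

/-- Sections of a smooth algebra starting with a given one whose differentials form a basis at a prime. -/
theorem exists_coordinates (A B R : Type u) [CommRing A] [CommRing B] [CommRing R] [IsLocalRing R]
    [Algebra A B] [Algebra B R] [Algebra A R] [IsScalarTower A B R] [Algebra.EssFiniteType A B]
    (q : Ideal B) [q.IsPrime] [IsLocalization.AtPrime R q] [Algebra.FormallySmooth A R]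
    (b : B) (hd : dbar A R (algebraMap B R b) ≠ 0) :
    ∃ (m : ℕ) (c : Option (Fin m) → B), c none = b ∧
      LinearIndependent R (fun i => D A R (algebraMap B R (c i))) ∧
      Submodule.span R (Set.range fun i => D A R (algebraMap B R (c i))) = ⊤ := by
  classical
  haveI : Algebra.EssFiniteType B R := Algebra.EssFiniteType.of_isLocalization _ q.primeCompl
  haveI : Algebra.EssFiniteType A R := Algebra.EssFiniteType.comp A B R
  let W := ResidueField R ⊗[R] Ω[R⁄A]
  let v : B → W := fun b => dbar A R (algebraMap B R b)
  have hvspan : Submodule.span (ResidueField R) (Set.range v) = ⊤ := by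
    have h1 : Submodule.span R (Set.range fun b : B => D A R (algebraMap B R b)) = ⊤ := by
      have h := span_range_map_derivation_of_isLocalization A B R q.primeCompl
      rw [show (fun b : B => D A R (algebraMap B R b)) = map A A B R ∘ D A B from
        funext fun b => (map_D A A B R b).symm]
      exact h
    have h := congrArg (Submodule.baseChange (ResidueField R)) h1
    rw [Submodule.baseChange_span, Submodule.baseChange_top, ← Set.range_comp] at h
    exact h
  have hs : LinearIndepOn (ResidueField R) id ({v b} : Set W) := LinearIndepOn.singleton hd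
  obtain ⟨bs, hbs, hsb, hspan, hbli⟩ := exists_linearIndepOn_extension hs
    (t := Set.range v) (by rintro _ rfl; exact ⟨b, rfl⟩)
  rw [Set.image_id, Set.image_id] at hspan
  have htop : Submodule.span (ResidueField R) bs = ⊤ :=
    top_le_iff.mp (hvspan.ge.trans (Submodule.span_le.mpr hspan))
  haveI : Fintype bs := hbli.linearIndependent.setFinite.fintype
  have hvb : v b ∈ bs := hsb rfl
  let m := Fintype.card ↥(bs \ {v b})
  let e : Fin m ≃ ↥(bs \ {v b}) := (Fintype.equivFin _).symm
  choose b' hb' using fun i : Fin m => hbs (e i).2.1
  let c : Option (Fin m) → B := fun o => o.elim b b'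
  have hne : ∀ i, v (b' i) ≠ v b := fun i => by rw [hb']; exact (e i).2.2
  have hc : Set.range (v ∘ c) = bs := by
    ext w
    constructor
    · rintro ⟨(_ | i), rfl⟩
      · exact hvb
      · show v (b' i) ∈ bs
        rw [hb']; exact (e i).2.1
    · intro hw
      by_cases hws : w = v b
      · exact ⟨none, hws.symm⟩
      · refine ⟨some (e.symm ⟨w, hw, hws⟩), ?_⟩
        show v (b' _) = w
        rw [hb', Equiv.apply_symm_apply]
  have hcinj : Function.Injective (v ∘ c) := by
    rintro (_ | i) (_ | j) h
    · rfl
    · exact absurd h.symm (hne j)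
    · exact absurd h (hne i)
    · refine congrArg some (e.injective (Subtype.ext ?_))
      rw [← hb' i, ← hb' j]; exact h
  have hcli : LinearIndependent (ResidueField R) (v ∘ c) := by
    refine (linearIndepOn_id_range_iff hcinj).mp ?_
    rw [hc]; exact hbli
  let w : Option (Fin m) → Ω[R⁄A] := fun i => D A R (algebraMap B R (c i))
  let bas : Module.Basis (Option (Fin m)) (ResidueField R) W :=
    Module.Basis.mk hcli (by rw [hc, htop])
  have hwspan : Submodule.span R (Set.range w) = ⊤ :=
    IsLocalRing.span_eq_top_of_tmul_eq_basis w bas fun i => by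
      rw [Module.Basis.mk_apply]; rfl
  haveI : Module.Free R (Ω[R⁄A]) := Module.free_of_flat_of_isLocalRing
  have hwli : LinearIndependent R w := by
    refine linearIndependent_of_top_le_span_of_card_eq_finrank hwspan.ge ?_
    rw [← Module.finrank_baseChange (R := ResidueField R) (S := R) (M' := Ω[R⁄A]),
      Module.finrank_eq_card_basis bas]
  exact ⟨m, c, rfl, hwli, hwspan⟩

/-- The map killing the distinguished variable. -/
def killNone (A : Type u) [CommRing A] (σ : Type) : MvPolynomial (Option σ) A →ₐ[A] MvPolynomial σ A :=
  MvPolynomial.aeval fun o => o.elim 0 MvPolynomial.X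

theorem killNone_surjective (A : Type u) [CommRing A] (σ : Type) : Function.Surjective (killNone A σ) :=
  fun p => ⟨MvPolynomial.rename some p, by
    induction p using MvPolynomial.induction_on with
    | C a => simp [killNone]
    | add p q hp hq => rw [map_add, map_add, hp, hq]
    | mul_X p i hp => rw [map_mul, map_mul, hp]; simp [killNone]⟩

theorem ker_killNone (A : Type u) [CommRing A] (σ : Type) :
    RingHom.ker (killNone A σ : MvPolynomial (Option σ) A →+* MvPolynomial σ A) =
      Ideal.span {MvPolynomial.X none} := by
  refine le_antisymm (fun p hp => ?_) (Ideal.span_le.mpr ?_)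
  · have key : ∀ q : MvPolynomial (Option σ) A,
        q - MvPolynomial.rename some (killNone A σ q) ∈ Ideal.span {MvPolynomial.X none} := by
      intro q
      induction q using MvPolynomial.induction_on with
      | C a => simp [killNone]
      | add p q hp hq =>
        rw [map_add, map_add, add_sub_add_comm]
        exact add_mem hp hq
      | mul_X p i hp =>
        rcases i with _ | i
        · rw [map_mul, show killNone A σ (MvPolynomial.X none) = 0 by simp [killNone], mul_zero, map_zero, sub_zero]
          exact Ideal.mul_mem_left _ _ (Ideal.subset_span rfl)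
        · rw [map_mul, show killNone A σ (MvPolynomial.X (some i)) = MvPolynomial.X i by simp [killNone], map_mul,
            MvPolynomial.rename_X, ← sub_mul]
          exact Ideal.mul_mem_right _ _ hp
    have := key p
    rwa [show killNone A σ p = 0 from hp, map_zero, sub_zero] at this
  · rintro _ rfl
    show killNone A σ (MvPolynomial.X none) = 0
    simp [killNone]

/-- A function with nonzero differential at a prime of a smooth algebra is, near the prime, a
nonzerodivisor with smooth zero locus. -/
theorem exists_smooth_quotient (A B R : Type u) [CommRing A] [CommRing B] [CommRing R] [IsLocalRing R]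
    [Algebra A B] [Algebra B R] [Algebra A R] [IsScalarTower A B R] [Algebra.Smooth A B]
    (q : Ideal B) [q.IsPrime] [IsLocalization.AtPrime R q]
    (b : B) (hd : dbar A R (algebraMap B R b) ≠ 0) :
    ∃ f : B, f ∉ q ∧ ∀ (T : Type u) [CommRing T] [Algebra B T] [IsLocalization.Away f T],
      algebraMap B T b ∈ nonZeroDivisors T ∧
        ((Ideal.Quotient.mk (Ideal.span {algebraMap B T b})).comp
          ((algebraMap B T).comp (algebraMap A B))).Smooth := by
  haveI : Algebra.FormallyEtale B R := Algebra.FormallyEtale.of_isLocalization q.primeCompl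
  haveI : Algebra.FormallySmooth A R := Algebra.FormallySmooth.comp A B R
  obtain ⟨m, c, hcb, hli, hspan⟩ := exists_coordinates A B R q b hd
  let P := MvPolynomial (Option (Fin m)) A
  letI : Algebra P B := (MvPolynomial.aeval c).toRingHom.toAlgebra
  haveI : IsScalarTower A P B := IsScalarTower.of_algebraMap_eq fun a => ((MvPolynomial.aeval c).commutes a).symm
  letI : Algebra P R := ((algebraMap B R).comp (algebraMap P B)).toAlgebra
  haveI : IsScalarTower P B R := IsScalarTower.of_algebraMap_eq fun _ => rfl
  haveI : IsScalarTower A P R := IsScalarTower.of_algebraMap_eq fun a => by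
    rw [IsScalarTower.algebraMap_apply P B R, ← IsScalarTower.algebraMap_apply A P B,
      ← IsScalarTower.algebraMap_apply A B R]
  have hX : (fun i => D A R (algebraMap P R (MvPolynomial.X i))) = fun i => D A R (algebraMap B R (c i)) :=
    funext fun i => by
      rw [IsScalarTower.algebraMap_apply P B R]
      exact congrArg (fun x => D A R (algebraMap B R x)) (MvPolynomial.aeval_X c i)
  haveI : Algebra.FormallyEtale P R := (Groth.L05.Kaehler.formallyEtale_mvPolynomial_iff (Option (Fin m)) A R).mpr
    (by rw [hX]; exact ⟨hli, hspan⟩)
  haveI : Algebra.IsEtaleAt P q := Algebra.FormallyEtale.of_equiv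
    ((IsLocalization.algEquiv q.primeCompl R (Localization.AtPrime q)).restrictScalars P)
  haveI : Algebra.FinitePresentation P B :=
    Algebra.FinitePresentation.of_restrict_scalars_finitePresentation A P B
  obtain ⟨f, hf, het⟩ := Algebra.exists_etale_of_isEtaleAt (R := P) q
  refine ⟨f, hf, fun T _ _ _ => ?_⟩
  letI : Algebra P T := ((algebraMap B T).comp (algebraMap P B)).toAlgebra
  haveI : IsScalarTower P B T := IsScalarTower.of_algebraMap_eq fun _ => rfl
  haveI : Algebra.Etale P T := Algebra.Etale.of_equiv
    ((IsLocalization.algEquiv (Submonoid.powers f) (Localization.Away f) T).restrictScalars P)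
  have hb : algebraMap P T (MvPolynomial.X none) = algebraMap B T b := by
    show algebraMap B T (MvPolynomial.aeval c (MvPolynomial.X none)) = _
    rw [MvPolynomial.aeval_X, hcb]
  refine ⟨?_, ?_⟩
  · rw [← hb]
    refine mem_nonZeroDivisors_iff_right.mpr fun z hz => ?_
    have hreg : IsSMulRegular P (MvPolynomial.X none : P) := by
      intro p p' h
      exact MvPolynomial.isRegular_X.left h
    have h := hreg.of_flat (S := T)
    refine h (show algebraMap P T (MvPolynomial.X none) • z = algebraMap P T (MvPolynomial.X none) • 0 from ?_)
    rw [smul_zero, smul_eq_mul, mul_comm, hz]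
  · letI : Algebra A T := ((algebraMap B T).comp (algebraMap A B)).toAlgebra
    haveI : IsScalarTower A B T := IsScalarTower.of_algebraMap_eq fun _ => rfl
    haveI : IsScalarTower A P T := IsScalarTower.of_algebraMap_eq fun a => by
      rw [IsScalarTower.algebraMap_apply P B T, ← IsScalarTower.algebraMap_apply A P B,
        ← IsScalarTower.algebraMap_apply A B T]
    let I : Ideal P := Ideal.span {MvPolynomial.X none}
    let J : Ideal T := Ideal.span {algebraMap B T b}
    have hJ : J = I.map (algebraMap P T) := by rw [Ideal.map_span, Set.image_singleton, hb]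
    haveI : Algebra.Smooth A (P ⧸ I) := by
      have h : RingHom.ker (killNone A (Fin m) : P →+* MvPolynomial (Fin m) A) = I := ker_killNone A (Fin m)
      haveI : Algebra.Smooth A (MvPolynomial (Fin m) A) := ⟨inferInstance, inferInstance⟩
      exact Algebra.Smooth.of_equiv
        ((Ideal.quotientKerAlgEquivOfSurjective (killNone_surjective A (Fin m))).symm.trans
          (Ideal.quotientEquivAlgOfEq A h))
    haveI : Algebra.Etale (P ⧸ I) (T ⧸ I.map (algebraMap P T)) :=
      Algebra.Etale.of_equiv (Algebra.TensorProduct.quotIdealMapEquivQuotTensor T I).symm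
    haveI : IsScalarTower A (P ⧸ I) (T ⧸ I.map (algebraMap P T)) := IsScalarTower.to₁₃₄ A P (P ⧸ I) _
    haveI : Algebra.Smooth (P ⧸ I) (T ⧸ I.map (algebraMap P T)) := ⟨inferInstance, inferInstance⟩
    haveI : Algebra.Smooth A (T ⧸ I.map (algebraMap P T)) := Algebra.Smooth.comp A (P ⧸ I) _
    show ((Ideal.Quotient.mk J).comp ((algebraMap B T).comp (algebraMap A B))).Smooth
    rw [hJ]
    have h : (algebraMap A (T ⧸ I.map (algebraMap P T))).Smooth := RingHom.smooth_algebraMap.mpr inferInstance
    exact h

end Groth.L24.SmoothDivisor
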