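import Groth.Agent.L24.SmoothDivisor.MinGen
import Mathlib.AlgebraicGeometry.Morphisms.Smooth
import Mathlib.AlgebraicGeometry.Morphisms.ClosedImmersion
import Mathlib.AlgebraicGeometry.AffineSpace
import Mathlib.AlgebraicGeometry.Morphisms.Etale
import Mathlib.AlgebraicGeometry.IdealSheaf.Basic

/-!
The étale local structure of a smooth closed subscheme.
-/

set_option autoImplicit false
set_option maxSynthPendingDepth 3
set_option linter.style.haveILetI false
set_option backward.isDefEq.respectTransparency.types false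
universe u

open CategoryTheory CategoryTheory.Limits AlgebraicGeometry TopologicalSpace

noncomputable section

namespace Groth.L24.SmoothDivisor

variable {S X Y : Scheme.{u}}

/-- Affine coordinates adapted to a smooth closed subscheme. -/
theorem exists_coordinates_affine (g : X ⟶ S) [Smooth g] (i : Y ⟶ X) [IsClosedImmersion i] [Smooth (i ≫ g)] (y : Y) :
    ∃ (V : S.Opens) (_ : IsAffineOpen V) (U : X.Opens) (_ : IsAffineOpen U) (e : U ≤ g ⁻¹ᵁ V) (m r : ℕ)
      (φ : CommRingCat.of (MvPolynomial (ULift.{u} (Fin m ⊕ Fin r)) Γ(S, V)) ⟶ Γ(X, U)),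
      i y ∈ U ∧ φ.hom.Etale ∧ CommRingCat.ofHom MvPolynomial.C ≫ φ = g.appLE V U e ∧
      RingHom.ker (i.app U).hom = Ideal.span (Set.range fun b : Fin r => φ (MvPolynomial.X (ULift.up (Sum.inr b)))) := by
  obtain ⟨_, ⟨V, hV, rfl⟩, hxV, -⟩ :=
    S.isBasis_affineOpens.exists_subset_of_mem_open (show g (i y) ∈ (⊤ : S.Opens) from trivial) isOpen_univ
  obtain ⟨_, ⟨W, hW, rfl⟩, hxW, hWV⟩ :=
    X.isBasis_affineOpens.exists_subset_of_mem_open (show i y ∈ g ⁻¹ᵁ V from hxV) (g ⁻¹ᵁ V).2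
  have e : W ≤ g ⁻¹ᵁ V := hWV
  have hY' : IsAffineOpen (i ⁻¹ᵁ W) := hW.preimage i
  let A := Γ(S, V)
  let B := Γ(X, W)
  letI : Algebra A B := (g.appLE V W e).hom.toAlgebra
  haveI : Algebra.Smooth A B := Scheme.Hom.smooth_appLE g hV hW e
  let J := RingHom.ker (i.app W).hom
  let ε : (B ⧸ J) ≃+* Γ(Y, i ⁻¹ᵁ W) := RingHom.quotientKerEquivOfSurjective (i.app_surjective W hW)
  haveI : Algebra.Smooth A (B ⧸ J) := by
    have h1 : ((i ≫ g).appLE V (i ⁻¹ᵁ W) (i.preimage_mono e)).hom.Smooth := Scheme.Hom.smooth_appLE _ hV hY' _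
    have h2 := RingHom.Smooth.respectsIso.1 _ ε.symm h1
    have h3 : (ε.symm : Γ(Y, i ⁻¹ᵁ W) →+* B ⧸ J).comp ((i ≫ g).appLE V (i ⁻¹ᵁ W) (i.preimage_mono e)).hom =
        algebraMap A (B ⧸ J) := by
      refine RingHom.ext fun a => ε.injective ((ε.apply_symm_apply _).trans ?_)
      rw [Scheme.Hom.comp_appLE]
      show i.appLE (g ⁻¹ᵁ V) (i ⁻¹ᵁ W) _ (g.app V a) = i.app W (g.appLE V W e a)
      rw [Scheme.Hom.app_eq_appLE (f := i) (U := W)]
      show _ = (g.appLE V W e ≫ i.appLE W (i ⁻¹ᵁ W) le_rfl) a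
      rw [Scheme.Hom.appLE_comp_appLE, Scheme.Hom.comp_appLE]
      rfl
    rw [← RingHom.smooth_algebraMap]
    exact h3 ▸ h2
  have hJ : J.FG := by
    have h := Algebra.FinitePresentation.ker_fG_of_surjective (Ideal.Quotient.mkₐ A J) Ideal.Quotient.mk_surjective
    rwa [show RingHom.ker (Ideal.Quotient.mkₐ A J).toRingHom = J from Ideal.mk_ker] at h
  let q := (hW.primeIdealOf ⟨i y, hxW⟩).asIdeal
  have hfs : hW.fromSpec (hW.primeIdealOf ⟨i y, hxW⟩) = i y := hW.fromSpec_primeIdealOf ⟨i y, hxW⟩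
  have hJq : J ≤ q := fun a ha => by
    by_contra hn
    have h1 : i y ∈ X.basicOpen a := hfs ▸
      (show hW.primeIdealOf ⟨i y, hxW⟩ ∈ hW.fromSpec ⁻¹ᵁ X.basicOpen a from
        (hW.fromSpec_preimage_basicOpen a).symm ▸ hn)
    have h2 : y ∈ i ⁻¹ᵁ X.basicOpen a := h1
    rw [Scheme.preimage_basicOpen, RingHom.mem_ker.1 ha, Scheme.basicOpen_zero] at h2
    exact h2
  let Q : Ideal (B ⧸ J) := q.map (Ideal.Quotient.mk J)
  haveI : Q.IsPrime := Ideal.map_isPrime_of_surjective Ideal.Quotient.mk_surjective (Ideal.mk_ker.le.trans hJq)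
  have hQ : Q.comap (Ideal.Quotient.mk J) = q := by
    rw [Ideal.comap_map_of_surjective _ Ideal.Quotient.mk_surjective, ← RingHom.ker_eq_comap_bot, Ideal.mk_ker,
      sup_eq_left.2 hJq]
  obtain ⟨r, gJ, hgJ, hr, hgen⟩ := exists_minimal_generators J hJ q
  obtain ⟨f, hf, m, g', het, hJf⟩ := Groth.L05.SmoothAdapted.exists_coordinates A B J hJ q hJq Q hQ r gJ hgJ hgen hr
  let U := X.basicOpen f
  have hle : U ≤ W := X.basicOpen_le f
  letI : Algebra B Γ(X, U) := (X.presheaf.map (homOfLE hle).op).hom.toAlgebra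
  haveI : IsLocalization.Away f Γ(X, U) := hW.isLocalization_basicOpen f
  let L := Localization.Away f
  let δ : L ≃ₐ[B] Γ(X, U) := IsLocalization.algEquiv (Submonoid.powers f) L Γ(X, U)
  let c : Fin r ⊕ Fin m → L := Sum.elim (fun i => algebraMap B L (gJ i)) g'
  let σ : ULift.{u} (Fin m ⊕ Fin r) ≃ Fin r ⊕ Fin m := Equiv.ulift.trans (Equiv.sumComm _ _)
  let φ : MvPolynomial (ULift.{u} (Fin m ⊕ Fin r)) A →+* Γ(X, U) :=
    (δ.toRingEquiv.toRingHom.comp (MvPolynomial.aeval c : MvPolynomial (Fin r ⊕ Fin m) A →ₐ[A] L).toRingHom).comp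
      (MvPolynomial.renameEquiv A σ).toRingEquiv.toRingHom
  have hxf : i y ∈ U := by
    rw [← hfs]
    show hW.primeIdealOf ⟨i y, hxW⟩ ∈ hW.fromSpec ⁻¹ᵁ X.basicOpen f
    exact (hW.fromSpec_preimage_basicOpen f).symm ▸ hf
  refine ⟨V, hV, U, hW.basicOpen f, hle.trans e, m, r, CommRingCat.ofHom φ, hxf, ?_, ?_, ?_⟩
  · exact RingHom.Etale.stableUnderComposition _ _ (RingHom.Etale.of_bijective (MvPolynomial.renameEquiv A σ).bijective)
      (RingHom.Etale.stableUnderComposition _ _ het (RingHom.Etale.of_bijective δ.bijective))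
  · ext a
    show δ (MvPolynomial.aeval c (MvPolynomial.rename σ (MvPolynomial.C a))) = g.appLE V U (hle.trans e) a
    rw [MvPolynomial.rename_C, MvPolynomial.aeval_C, IsScalarTower.algebraMap_apply A B L, AlgEquiv.commutes]
    show (g.appLE V W e ≫ X.presheaf.map (homOfLE hle).op) a = _
    rw [Scheme.Hom.appLE_map]
  · rw [← show (RingHom.ker (i.app W).hom).map (X.presheaf.map (homOfLE hle).op).hom = RingHom.ker (i.app U).hom by
      rw [← Scheme.Hom.ker_apply i ⟨W, hW⟩, ← Scheme.Hom.ker_apply i ⟨U, hW.basicOpen f⟩]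
      exact i.ker.map_ideal_basicOpen ⟨W, hW⟩ f, show Ideal.map (X.presheaf.map (homOfLE hle).op).hom
        (RingHom.ker (i.app W).hom) = J.map (δ.toRingEquiv.toRingHom.comp (algebraMap B L)) from
      congrArg (fun w => Ideal.map w J) (RingHom.ext fun b => (δ.commutes b).symm)]
    rw [← Ideal.map_map, hJf, Ideal.map_span, ← Set.range_comp]
    refine congrArg (fun w => Ideal.span (Set.range w)) (funext fun b => ?_)
    show δ (algebraMap B L (gJ b)) = δ (MvPolynomial.aeval c (MvPolynomial.rename σ (MvPolynomial.X _)))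
    rw [MvPolynomial.rename_X, MvPolynomial.aeval_X]
    rfl

theorem le_ker_of_top {W X : Scheme.{u}} [IsAffine X] (I : X.IdealSheafData) (a : W ⟶ X)
    (h : I.ideal ⟨⊤, isAffineOpen_top X⟩ ≤ RingHom.ker a.appTop.hom) : I ≤ a.ker := by
  refine Scheme.IdealSheafData.le_ofIdeals_iff.mpr fun U => ?_
  rw [← I.map_ideal (V := ⟨⊤, isAffineOpen_top X⟩) (U := U) (le_top (a := U.1)), Ideal.map_le_iff_le_comap]
  intro x hx
  show a.app U.1 (X.presheaf.map (homOfLE _).op x) = 0
  have h0 : a.appTop x = 0 := h hx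
  have := ConcreteCategory.congr_hom (a.naturality (homOfLE (le_top : U.1 ≤ ⊤)).op) x
  rw [CommRingCat.comp_apply, CommRingCat.comp_apply] at this
  rw [this, show a.app ⊤ x = 0 from h0, map_zero]

/-- The étale local structure of a smooth closed subscheme. -/
theorem exists_etale_local_structure (pX : X ⟶ S) (pY : Y ⟶ S) [Smooth pX] [Smooth pY]
    (i : Y ⟶ X) [IsClosedImmersion i] (w : i ≫ pX = pY) (y : Y) :
    ∃ (U : X.Opens) (m n : ℕ) (π : (U : Scheme.{u}) ⟶ 𝔸(ULift.{u} (Fin m ⊕ Fin n); S)) (ρ : (↑(i ⁻¹ᵁ U) : Scheme.{u}) ⟶ 𝔸(ULift.{u} (Fin m); S)),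
      i y ∈ U ∧ Etale π ∧ π ≫ (𝔸(ULift.{u} (Fin m ⊕ Fin n); S) ↘ S) = U.ι ≫ pX ∧
      IsPullback ρ (i ∣_ U)
        (AffineSpace.homOfVector (𝔸(ULift.{u} (Fin m); S) ↘ S)
          (fun j : ULift.{u} (Fin m ⊕ Fin n) => Sum.elim (fun a => AffineSpace.coord S (ULift.up a)) (fun _ => 0) j.down))
        π := by
  haveI : Smooth (i ≫ pX) := w ▸ inferInstance
  obtain ⟨V, hV, U, hU, e, m, r, φ, hyU, hφ, hC, hker⟩ := exists_coordinates_affine pX i y
  let σ := ULift.{u} (Fin m ⊕ Fin r)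
  let π : (U : Scheme.{u}) ⟶ 𝔸(σ; S) :=
    hU.isoSpec.hom ≫ Spec.map φ ≫ (AffineSpace.SpecIso σ Γ(S, V)).inv ≫ AffineSpace.map σ hV.fromSpec
  haveI : Etale (Spec.map φ) := (HasRingHomProperty.Spec_iff (P := @Etale)).mpr hφ
  haveI : IsOpenImmersion (AffineSpace.map σ hV.fromSpec) :=
    MorphismProperty.of_isPullback (AffineSpace.isPullback_map (n := σ) hV.fromSpec).flip inferInstance
  have hπ : Etale π := inferInstanceAs (Etale (_ ≫ _ ≫ _ ≫ _))
  have hover : π ≫ 𝔸(σ; S) ↘ S = U.ι ≫ pX := by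
    simp only [π, Category.assoc, AffineSpace.map_over, AffineSpace.SpecIso_inv_over_assoc]
    rw [← Spec.map_comp_assoc, hC, IsAffineOpen.SpecMap_appLE_fromSpec pX hV hU e, IsAffineOpen.isoSpec_hom_fromSpec_assoc]
  have hcoord : ∀ j, π.appTop (AffineSpace.coord S j) = U.topIso.inv (φ (MvPolynomial.X j)) := by
    intro j
    simp only [π, Scheme.Hom.comp_appTop, CommRingCat.comp_apply, AffineSpace.map_appTop_coord,
      AffineSpace.SpecIso_inv_appTop_coord]
    rw [← CommRingCat.comp_apply (Scheme.ΓSpecIso _).inv, ← Scheme.ΓSpecIso_inv_naturality, CommRingCat.comp_apply,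
      IsAffineOpen.isoSpec_hom_appTop, CommRingCat.comp_apply, CategoryTheory.Iso.inv_hom_id_apply]
  haveI : IsAffine (U : Scheme.{u}) := hU
  let K : Ideal Γ(U, ⊤) := Ideal.span (Set.range fun b : Fin r => π.appTop (AffineSpace.coord S (ULift.up (Sum.inr b))))
  have hK : RingHom.ker (i ∣_ U).appTop.hom = K := by
    have h1 : RingHom.ker (i ∣_ U).appTop.hom = (RingHom.ker (i.app U).hom).map U.topIso.inv.hom := by
      have hnat : (i ∣_ U).appTop ≫ (i ⁻¹ᵁ U).topIso.hom = U.topIso.hom ≫ i.app U := by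
        simp [Scheme.Hom.app_eq_appLE]
        erw [Scheme.Hom.appLE_map, Scheme.Hom.map_appLE]
      ext x
      have hx : i.app U (U.topIso.hom x) = (i ⁻¹ᵁ U).topIso.hom ((i ∣_ U).appTop x) :=
        (congrArg (fun k => (ConcreteCategory.hom k) x) hnat).symm
      rw [Ideal.mem_map_iff_of_surjective U.topIso.inv.hom U.topIso.symm.commRingCatIsoToRingEquiv.surjective]
      constructor
      · intro h
        refine ⟨U.topIso.hom x, ?_, CategoryTheory.Iso.hom_inv_id_apply U.topIso x⟩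
        rw [RingHom.mem_ker] at h ⊢
        exact hx.trans ((congrArg _ h).trans (map_zero _))
      · rintro ⟨x, h, rfl⟩
        rw [RingHom.mem_ker] at h ⊢
        refine (i ⁻¹ᵁ U).topIso.commRingCatIsoToRingEquiv.injective ?_
        rw [map_zero]
        refine hx.symm.trans ?_
        rw [show U.topIso.hom (U.topIso.inv.hom x) = x from CategoryTheory.Iso.inv_hom_id_apply U.topIso x]
        exact h
    rw [h1, hker, Ideal.map_span, ← Set.range_comp]
    exact congrArg (fun w => Ideal.span (Set.range w)) (funext fun b => (hcoord _).symm)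
  let σ' := ULift.{u} (Fin m)
  let ρ : (↑(i ⁻¹ᵁ U) : Scheme.{u}) ⟶ 𝔸(σ'; S) := AffineSpace.homOfVector ((i ⁻¹ᵁ U).ι ≫ pY)
    fun a => (i ∣_ U).appTop (π.appTop (AffineSpace.coord S (ULift.up (Sum.inl a.down))))
  let κ : 𝔸(σ'; S) ⟶ 𝔸(σ; S) := AffineSpace.homOfVector (𝔸(σ'; S) ↘ S)
    fun j : σ => Sum.elim (fun a => AffineSpace.coord S (ULift.up a)) (fun _ => 0) j.down
  have hsq : ρ ≫ κ = (i ∣_ U) ≫ π := by
    refine AffineSpace.hom_ext ?_ fun j => ?_
    · simp only [κ, ρ, Category.assoc, AffineSpace.homOfVector_over, hover, morphismRestrict_ι_assoc, w]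
    · rw [Scheme.Hom.comp_appTop, Scheme.Hom.comp_appTop, CommRingCat.comp_apply, CommRingCat.comp_apply]
      simp only [κ, AffineSpace.homOfVector_appTop_coord]
      rcases j with ⟨a | b⟩
      · simp only [Sum.elim_inl, ρ, AffineSpace.homOfVector_appTop_coord]
      · simp only [Sum.elim_inr, map_zero]
        exact (RingHom.mem_ker.mp (hK.ge (Ideal.subset_span ⟨b, rfl⟩))).symm
  refine ⟨U, m, r, π, ρ, hyU, hπ, hover, ?_⟩
  have H : ∀ s : PullbackCone κ π, (i ∣_ U).ker ≤ s.snd.ker := fun s => by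
    refine le_ker_of_top _ _ ?_
    refine (Scheme.Hom.ideal_ker_le (i ∣_ U) ⟨⊤, isAffineOpen_top _⟩).trans ?_
    show RingHom.ker (i ∣_ U).appTop.hom ≤ _
    rw [hK, Ideal.span_le]
    rintro _ ⟨b, rfl⟩
    show s.snd.appTop (π.appTop (AffineSpace.coord S (ULift.up (Sum.inr b)))) = 0
    rw [← CommRingCat.comp_apply, ← Scheme.Hom.comp_appTop, ← s.condition, Scheme.Hom.comp_appTop, CommRingCat.comp_apply]
    simp only [κ, AffineSpace.homOfVector_appTop_coord, Sum.elim_inr, map_zero]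
  refine IsPullback.of_isLimit' ⟨hsq⟩ (PullbackCone.IsLimit.mk hsq
    (fun s => IsClosedImmersion.lift (i ∣_ U) s.snd (H s)) (fun s => ?_) (fun s => IsClosedImmersion.lift_fac _ _ _) ?_)
  · have hl := IsClosedImmersion.lift_fac (i ∣_ U) s.snd (H s)
    generalize IsClosedImmersion.lift (i ∣_ U) s.snd (H s) = l at hl ⊢
    refine AffineSpace.hom_ext ?_ fun a => ?_
    · simp only [ρ, Category.assoc, AffineSpace.homOfVector_over]
      rw [← w, ← morphismRestrict_ι_assoc, ← hover, reassoc_of% hl, ← s.condition_assoc]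
      simp only [κ, AffineSpace.homOfVector_over]
    · rw [Scheme.Hom.comp_appTop, CommRingCat.comp_apply]
      simp only [ρ, AffineSpace.homOfVector_appTop_coord]
      rw [← CommRingCat.comp_apply (i ∣_ U).appTop, ← Scheme.Hom.comp_appTop, hl, ← CommRingCat.comp_apply π.appTop,
        ← Scheme.Hom.comp_appTop, ← s.condition, Scheme.Hom.comp_appTop, CommRingCat.comp_apply]
      simp only [κ, AffineSpace.homOfVector_appTop_coord, Sum.elim_inl]
      rfl
  · intro s l _ h2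
    rw [← cancel_mono (i ∣_ U), IsClosedImmersion.lift_fac]
    exact h2

end Groth.L24.SmoothDivisor
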