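import Groth.Agent.L05.SmoothAdapted.Main
import Mathlib.RingTheory.LocalRing.Module
import Mathlib.RingTheory.Localization.BaseChange

/-!
Minimal generators of a finitely generated ideal at a prime.
-/

set_option autoImplicit false
set_option maxSynthPendingDepth 3
set_option linter.style.haveILetI false
universe u

open scoped TensorProduct

noncomputable section

namespace Groth.L24.SmoothDivisor

/-- Minimal generators of a finitely generated ideal at a prime. -/
theorem exists_minimal_generators {B : Type u} [CommRing B] (J : Ideal B) (hJ : J.FG) (q : Ideal B) [q.IsPrime] :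
    ∃ (r : ℕ) (g : Fin r → B), (∀ i, g i ∈ J) ∧
      r = Module.finrank q.ResidueField (q.ResidueField ⊗[B] J) ∧
      J.map (algebraMap B (Localization.AtPrime q)) =
        Ideal.span (Set.range fun i => algebraMap B (Localization.AtPrime q) (g i)) := by
  classical
  let R := Localization.AtPrime q
  let κ := q.ResidueField
  haveI : Module.Finite B J := Module.Finite.iff_fg.mpr hJ
  let W := κ ⊗[B] J
  let v : J → W := fun j => (1 : κ) ⊗ₜ[B] j
  have hv : Submodule.span κ (Set.range v) = ⊤ := by
    refine eq_top_iff.mpr fun x _ => ?_
    induction x using TensorProduct.induction_on with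
    | zero => simp
    | add a b ha hb => exact Submodule.add_mem _ (ha trivial) (hb trivial)
    | tmul c j =>
      rw [← mul_one c, ← smul_eq_mul, ← TensorProduct.smul_tmul']
      exact Submodule.smul_mem _ _ (Submodule.subset_span ⟨j, rfl⟩)
  obtain ⟨bs, hbs, hspan, hli⟩ := exists_linearIndependent κ (Set.range v)
  have htop : Submodule.span κ bs = ⊤ := hspan.trans hv
  haveI : Fintype bs := hli.setFinite.fintype
  let r := Fintype.card bs
  let bas : Module.Basis (Fin r) κ W :=
    (Module.Basis.mk hli (by rw [Subtype.range_coe, htop])).reindex (Fintype.equivFin bs)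
  choose j hj using fun i : Fin r => (hbs ((Fintype.equivFin bs).symm i).2)
  refine ⟨r, fun i => (j i).1, fun i => (j i).2,
    ((Module.finrank_eq_card_basis bas).trans (Fintype.card_fin r)).symm, ?_⟩
  let e : R ⊗[B] J ≃ₗ[R] (J.map (algebraMap B R) : Ideal R) :=
    (IsLocalizedModule.isBaseChange q.primeCompl R (Algebra.idealMap J (S := R))).equiv
  let c : κ ⊗[R] (R ⊗[B] J) ≃ₗ[κ] W := TensorProduct.AlgebraTensorModule.cancelBaseChange B R κ κ J
  have hgen := IsLocalRing.span_eq_top_of_tmul_eq_basis (R := R) (fun i => (1 : R) ⊗ₜ[B] j i) (bas.map c.symm)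
    fun i => by
      rw [Module.Basis.map_apply]
      refine (LinearEquiv.eq_symm_apply _).2 ?_
      rw [TensorProduct.AlgebraTensorModule.cancelBaseChange_tmul, one_smul, Module.Basis.reindex_apply,
        Module.Basis.mk_apply]
      exact hj i
  have h := congrArg (Submodule.map (((J.map (algebraMap B R) : Ideal R).subtype).comp e.toLinearMap)) hgen
  rw [Submodule.map_span, Submodule.map_comp, Submodule.map_top, LinearEquiv.range, Submodule.map_top,
    Submodule.range_subtype, ← Set.range_comp] at h
  refine h.symm.trans ?_
  refine congrArg (fun w => Ideal.span (Set.range w)) (funext fun i => ?_)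
  show (e ((1 : R) ⊗ₜ[B] j i)).1 = algebraMap B R (j i).1
  rw [IsBaseChange.equiv_tmul, one_smul]
  rfl

end Groth.L24.SmoothDivisor
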