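import Groth.Agent.L05.SmoothCrit.Conormal
import Mathlib.RingTheory.Smooth.Basic
import Mathlib.RingTheory.Kaehler.Basic
import Mathlib.RingTheory.LocalRing.ResidueField.Basic
import Mathlib.RingTheory.Ideal.Quotient.PowTransition
import Mathlib.LinearAlgebra.TensorProduct.Quotient

/-!
Elements of the maximal ideal with nonvanishing differential.
-/

set_option autoImplicit false
set_option maxSynthPendingDepth 3
set_option linter.style.haveILetI false
universe u

noncomputable section

namespace Groth.L24.SmoothDivisor

open KaehlerDifferential IsLocalRing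
open scoped TensorProduct
open Groth.L05.SmoothCrit (dbar)

variable (O R : Type u) [CommRing O] [CommRing R] [IsLocalRing R] [Algebra O R]

/-- A nonzero kernel of `κ ⊗ Ω → Ω_κ` comes from the differential of an element of the maximal ideal. -/
theorem exists_dbar_ne_zero_of_ker [Algebra O (ResidueField R)] [IsScalarTower O R (ResidueField R)]
    (hker : LinearMap.ker (mapBaseChange O R (ResidueField R)) ≠ ⊥) :
    ∃ h ∈ maximalIdeal R, dbar O R h ≠ 0 := by
  by_contra! H
  refine hker ((Submodule.eq_bot_iff _).mpr fun x hx => ?_)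
  obtain ⟨y, rfl⟩ := (exact_kerCotangentToTensor_mapBaseChange O R (ResidueField R) residue_surjective x).mp hx
  obtain ⟨⟨a, ha⟩, rfl⟩ := Ideal.toCotangent_surjective _ y
  rw [kerCotangentToTensor_toCotangent]
  exact H a ((residue_eq_zero_iff a).mp ha)

theorem mem_smul_top_of_dbar_eq_zero {h : R} (h0 : dbar O R h = 0) :
    D O R h ∈ maximalIdeal R • (⊤ : Submodule R Ω[R⁄O]) := by
  have := congrArg (TensorProduct.quotTensorEquivQuotSMul Ω[R⁄O] (maximalIdeal R)) h0
  erw [map_zero, TensorProduct.quotTensorEquivQuotSMul_mk_tmul] at this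
  rwa [one_smul, Submodule.Quotient.mk_eq_zero] at this

/-- For a separable residue extension, a nonzero cotangent vector of the fibre has nonzero differential. -/
theorem exists_dbar_ne_zero_of_formallySmooth [IsLocalRing O] [IsLocalHom (algebraMap O R)]
    [Algebra.FormallySmooth (ResidueField O) (ResidueField R)]
    (hne : ¬ maximalIdeal R ≤ (maximalIdeal O).map (algebraMap O R) ⊔ maximalIdeal R ^ 2) :
    ∃ h ∈ maximalIdeal R, dbar O R h ≠ 0 := by
  obtain ⟨h, hm, hh⟩ := SetLike.not_le_iff_exists.mp hne
  refine ⟨h, hm, fun h0 => hh ?_⟩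
  set I := (maximalIdeal O).map (algebraMap O R) ⊔ maximalIdeal R ^ 2 with hI
  have hIm : I ≤ maximalIdeal R :=
    sup_le (((local_hom_TFAE (algebraMap O R)).out 0 2 rfl rfl).mp inferInstance) (Ideal.pow_le_self two_ne_zero)
  let j : ResidueField O →+* R ⧸ I := Ideal.Quotient.lift _ ((Ideal.Quotient.mk I).comp (algebraMap O R))
    fun x hx => Ideal.Quotient.eq_zero_iff_mem.mpr (Ideal.mem_sup_left (Ideal.mem_map_of_mem _ hx))
  letI : Algebra (ResidueField O) (R ⧸ I) := j.toAlgebra
  let g : R ⧸ I →ₐ[ResidueField O] ResidueField R :=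
    { Ideal.Quotient.factor hIm with
      commutes' := fun k => by
        obtain ⟨o, rfl⟩ := residue_surjective k
        rfl }
  have hg : Function.Surjective g := Ideal.Quotient.factor_surjective hIm
  have hsq : RingHom.ker (g : R ⧸ I →+* ResidueField R) ^ 2 = ⊥ := by
    have hk : RingHom.ker (g : R ⧸ I →+* ResidueField R) = (maximalIdeal R).map (Ideal.Quotient.mk I) :=
      Ideal.Quotient.factor_ker hIm
    rw [hk, ← Ideal.map_pow, Ideal.map_eq_bot_iff_le_ker, Ideal.mk_ker]
    exact le_sup_right
  let s := Algebra.FormallySmooth.liftOfSurjective (AlgHom.id (ResidueField O) (ResidueField R)) g hg ⟨2, hsq⟩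
  have hgs : ∀ x, g (s x) = x := fun x => Algebra.FormallySmooth.liftOfSurjective_apply _ g hg ⟨2, hsq⟩ x
  let d : R → R ⧸ I := fun r => Ideal.Quotient.mk I r - s (residue R r)
  have hd : ∀ r, d r ∈ RingHom.ker (g : R ⧸ I →+* ResidueField R) := fun r => by
    show g (Ideal.Quotient.mk I r - s (residue R r)) = 0
    rw [map_sub, hgs, sub_eq_zero]
    rfl
  have hso : ∀ o, s (residue R (algebraMap O R o)) = Ideal.Quotient.mk I (algebraMap O R o) := fun o =>
    s.commutes (residue O o)
  let dl : R →ₗ[O] R ⧸ I :=
    { toFun := d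
      map_add' := fun a b => by simp only [d, map_add]; ring
      map_smul' := fun o a => by
        simp only [d, RingHom.id_apply, Algebra.smul_def, map_mul, hso,
          IsScalarTower.algebraMap_apply O R (R ⧸ I), Ideal.Quotient.algebraMap_eq]
        ring }
  let δ : Derivation O R (R ⧸ I) := Derivation.mk' dl fun a b => by
    show d (a * b) = a • d b + b • d a
    have hz : d a * d b = 0 := by
      have := Ideal.mul_mem_mul (hd a) (hd b)
      rwa [← pow_two, hsq, Ideal.mem_bot] at this
    simp only [d, map_mul, Algebra.smul_def, Ideal.Quotient.algebraMap_eq] at hz ⊢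
    linear_combination -hz
  have hrange : ∀ x, δ.liftKaehlerDifferential x ∈ RingHom.ker (g : R ⧸ I →+* ResidueField R) := by
    intro x
    have hx : x ∈ Submodule.span R (Set.range (D O R)) := by rw [span_range_derivation]; trivial
    induction hx using Submodule.span_induction with
    | mem x hx =>
      obtain ⟨a, rfl⟩ := hx
      rw [Derivation.liftKaehlerDifferential_comp_D]
      exact hd a
    | zero => rw [map_zero]; exact zero_mem _
    | add a b _ _ ha hb => rw [map_add]; exact add_mem ha hb
    | smul t a _ ha => rw [map_smul, Algebra.smul_def]; exact Ideal.mul_mem_left _ _ ha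
  have h2 : δ.liftKaehlerDifferential (D O R h) = 0 := by
    refine Submodule.smul_induction_on (mem_smul_top_of_dbar_eq_zero O R h0) (fun a ha x _ => ?_) fun a b ha hb => ?_
    · rw [map_smul, Algebra.smul_def]
      have h3 : algebraMap R (R ⧸ I) a ∈ RingHom.ker (g : R ⧸ I →+* ResidueField R) :=
        (residue_eq_zero_iff a).mpr ha
      have := Ideal.mul_mem_mul h3 (hrange x)
      rwa [← pow_two, hsq, Ideal.mem_bot] at this
    · rw [map_add, ha, hb, add_zero]
  rw [Derivation.liftKaehlerDifferential_comp_D] at h2
  have h4 : Ideal.Quotient.mk I h - s (residue R h) = 0 := h2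
  rw [(residue_eq_zero_iff h).mpr hm, map_zero, sub_zero] at h4
  exact Ideal.Quotient.eq_zero_iff_mem.mp h4

end Groth.L24.SmoothDivisor
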