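import Groth.Agent.L24.SmoothDivisor.Algebra
import Groth.Agent.L24.SmoothDivisor.Residue
import Groth.Agent.L18.FiberStalk
import Mathlib.AlgebraicGeometry.Morphisms.Smooth
import Mathlib.AlgebraicGeometry.Morphisms.FiniteType
import Mathlib.AlgebraicGeometry.Noetherian
import Mathlib.AlgebraicGeometry.Fiber
import Mathlib.RingTheory.Nakayama

/-!
Smooth effective Cartier divisors through a point of a smooth morphism.
-/

set_option autoImplicit false
set_option maxSynthPendingDepth 3
set_option linter.style.haveILetI false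
set_option backward.isDefEq.respectTransparency.types false
universe u

noncomputable section

namespace Groth.L24.SmoothDivisor

open AlgebraicGeometry CategoryTheory Limits KaehlerDifferential IsLocalRing
open scoped TensorProduct
open Groth.L05.SmoothCrit (dbar)

theorem dbar_ne_zero_of_tower (A O R : Type u) [CommRing A] [CommRing O] [CommRing R] [IsLocalRing R]
    [Algebra A O] [Algebra A R] [Algebra O R] [IsScalarTower A O R] {h : R} (hd : dbar O R h ≠ 0) :
    dbar A R h ≠ 0 := by
  intro h0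
  apply hd
  have := congrArg ((KaehlerDifferential.map A O R R).baseChange (ResidueField R)) h0
  rw [map_zero] at this
  erw [LinearMap.baseChange_tmul, map_D] at this
  simpa [Groth.L05.SmoothCrit.dbar] using this

theorem exists_smooth_divisor {X S : Scheme.{u}} (f : X ⟶ S) (x : X)
    (W : X.Opens) (hxW : x ∈ W) (hW : Smooth (W.ι ≫ f)) (h : ↑(X.presheaf.stalk x))
    (hd : letI := (f.stalkMap x).hom.toAlgebra
      dbar ↑(S.presheaf.stalk (f x)) ↑(X.presheaf.stalk x) h ≠ 0) :
    ∃ (U : X.Opens) (hU : IsAffineOpen U) (hx : x ∈ U) (h' : Γ(X, U)), X.presheaf.germ U x hx h' = h ∧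
      h' ∈ nonZeroDivisors Γ(X, U) ∧
      Smooth (Spec.map (CommRingCat.ofHom (Ideal.Quotient.mk (Ideal.span {h'}))) ≫ hU.fromSpec ≫ f) := by
  obtain ⟨_, ⟨(V : S.Opens), (hV : IsAffineOpen V), rfl⟩, (hxV : f x ∈ V), -⟩ := S.isBasis_affineOpens.exists_subset_of_mem_open (Set.mem_univ (f x)) isOpen_univ
  obtain ⟨U', hxU', h0, hh0⟩ := TopCat.Presheaf.germ_exist X.presheaf h
  obtain ⟨_, ⟨(U : X.Opens), (hU : IsAffineOpen U), rfl⟩, (hxU : x ∈ U), hUle⟩ := X.isBasis_affineOpens.exists_subset_of_mem_open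
    (u := ((W ⊓ f ⁻¹ᵁ V ⊓ U' : X.Opens) : Set X)) (a := x) ⟨⟨hxW, hxV⟩, hxU'⟩ (W ⊓ f ⁻¹ᵁ V ⊓ U').isOpen
  have hUW : U ≤ W := fun y hy => (hUle hy).1.1
  have hUV : U ≤ f ⁻¹ᵁ V := fun y hy => (hUle hy).1.2
  have hUU' : U ≤ U' := fun y hy => (hUle hy).2
  let B := Γ(X, U)
  let A := Γ(S, V)
  let R := X.presheaf.stalk x
  let O := S.presheaf.stalk (f x)
  let b : B := X.presheaf.map (homOfLE hUU').op h0
  have hgb : X.presheaf.germ U x hxU b = h := by
    rw [← hh0]
    exact TopCat.Presheaf.germ_res_apply X.presheaf (homOfLE hUU') x hxU h0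
  letI : Algebra A B := (f.appLE V U hUV).hom.toAlgebra
  letI : Algebra B R := X.presheaf.algebra_section_stalk ⟨x, hxU⟩
  letI : Algebra A R := ((algebraMap B R).comp (algebraMap A B)).toAlgebra
  haveI : IsScalarTower A B R := IsScalarTower.of_algebraMap_eq fun _ => rfl
  haveI := hU.isLocalization_stalk ⟨x, hxU⟩
  haveI : Smooth (U.ι ≫ f) := by
    haveI := hW
    have e : U.ι ≫ f = X.homOfLE hUW ≫ W.ι ≫ f := by rw [X.homOfLE_ι_assoc]
    rw [e]
    infer_instance
  haveI hsB : Smooth (hU.fromSpec ≫ f) := by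
    rw [show hU.fromSpec = hU.isoSpec.inv ≫ U.ι from rfl, Category.assoc]
    infer_instance
  have hsm : Smooth (Spec.map (f.appLE V U hUV)) := by
    refine MorphismProperty.of_postcomp (W := @Smooth) (W' := @IsOpenImmersion) _ hV.fromSpec inferInstance ?_
    rw [IsAffineOpen.SpecMap_appLE_fromSpec f hV hU hUV]
    exact hsB
  haveI : Algebra.Smooth A B := RingHom.smooth_algebraMap.mp ((HasRingHomProperty.Spec_iff (P := @Smooth)).mp hsm)
  have hd' : dbar A R (algebraMap B R b) ≠ 0 := by
    letI : Algebra A O := (S.presheaf.germ V (f x) hxV).hom.toAlgebra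
    letI : Algebra O R := (f.stalkMap x).hom.toAlgebra
    haveI : IsScalarTower A O R := IsScalarTower.of_algebraMap_eq fun a => by
      show X.presheaf.germ U x hxU (f.appLE V U hUV a) = f.stalkMap x (S.presheaf.germ V (f x) hxV a)
      rw [Scheme.Hom.germ_stalkMap_apply, Scheme.Hom.appLE, CommRingCat.comp_apply]
      exact TopCat.Presheaf.germ_res_apply X.presheaf (homOfLE hUV) x hxU _
    refine dbar_ne_zero_of_tower A O R ?_
    rw [show algebraMap B R b = h from hgb]
    exact hd
  obtain ⟨g, hg, key⟩ := exists_smooth_quotient A B R (hU.primeIdealOf ⟨x, hxU⟩).asIdeal b hd'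
  have hxg : x ∈ X.basicOpen g := by
    rw [Scheme.mem_basicOpen X g x hxU]
    exact IsLocalization.map_units (M := (hU.primeIdealOf ⟨x, hxU⟩).asIdeal.primeCompl) R ⟨g, hg⟩
  let U2 := X.basicOpen g
  have hle : U2 ≤ U := X.basicOpen_le g
  have hU2 : IsAffineOpen U2 := hU.basicOpen g
  let T := Γ(X, U2)
  letI : Algebra B T := (X.presheaf.map (homOfLE hle).op).hom.toAlgebra
  haveI : IsLocalization.Away g T := hU.isLocalization_basicOpen g
  obtain ⟨hnzd, hsmq⟩ := key T
  refine ⟨U2, hU2, hxg, algebraMap B T b, ?_, hnzd, ?_⟩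
  · rw [← hgb]
    exact TopCat.Presheaf.germ_res_apply X.presheaf (homOfLE hle) x hxg b
  · have h2 : hU2.fromSpec ≫ f = Spec.map (f.appLE V U hUV ≫ X.presheaf.map (homOfLE hle).op) ≫ hV.fromSpec := by
      rw [Scheme.Hom.appLE_map, IsAffineOpen.SpecMap_appLE_fromSpec f hV hU2 (hle.trans hUV)]
    rw [h2, ← Category.assoc, ← Spec.map_comp]
    haveI : Smooth (Spec.map ((f.appLE V U hUV ≫ X.presheaf.map (homOfLE hle).op) ≫
        CommRingCat.ofHom (Ideal.Quotient.mk (Ideal.span {algebraMap B T b})))) :=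
      (HasRingHomProperty.Spec_iff (P := @Smooth)).mpr hsmq
    infer_instance

/-- A point of a smooth morphism with separable residue field which is not a generic point of its fibre. -/
theorem not_le_of_fibre {X S : Scheme.{u}} (f : X ⟶ S) (x : X)
    [IsNoetherianRing ↑((f.fiber (f x)).presheaf.stalk (f.asFiber x))]
    (hgen : maximalIdeal ↑((f.fiber (f x)).presheaf.stalk (f.asFiber x)) ≠ ⊥) :
    ¬ maximalIdeal (X.presheaf.stalk x) ≤
      (maximalIdeal (S.presheaf.stalk (f x))).map (f.stalkMap x).hom ⊔ maximalIdeal (X.presheaf.stalk x) ^ 2 := by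
  intro hle
  apply hgen
  have : IsNoetherianRing ↑((f.fiber (f x)).presheaf.stalk (f.asFiber x)) := inferInstance
  have hle' : ∀ y : X, y = x → maximalIdeal (X.presheaf.stalk y) ≤
      (maximalIdeal (S.presheaf.stalk (f y))).map (f.stalkMap y).hom ⊔ maximalIdeal (X.presheaf.stalk y) ^ 2 := by
    rintro y rfl
    exact hle
  clear hle
  have hle := hle' _ (f.fiberι_asFiber x)
  clear hle'
  revert hgen hle this
  generalize f.asFiber x = z
  revert z
  generalize f x = s
  intro z hgen this hle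
  obtain ⟨hsurj, hker⟩ := Groth.L18.stalkMap_fiberι f s z
  set π := ((f.fiberι s).stalkMap z).hom with hπ
  have hmax : (maximalIdeal (X.presheaf.stalk (f.fiberι s z))).map π = maximalIdeal ((f.fiber s).presheaf.stalk z) := by
    rw [← IsLocalRing.eq_maximalIdeal (Ideal.comap_isMaximal_of_surjective π hsurj (K := maximalIdeal _)),
      Ideal.map_comap_of_surjective π hsurj]
  have h2 := Ideal.map_mono (f := π) hle
  rw [Ideal.map_sup, Ideal.map_pow, hmax, (Ideal.map_eq_bot_iff_le_ker π).mpr hker.ge, bot_sup_eq, pow_two] at h2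
  exact Submodule.eq_bot_of_le_smul_of_le_jacobson_bot _ _ (IsNoetherian.noetherian _) h2 (maximalIdeal_le_jacobson _)

theorem exists_smooth_divisor_of_separable {X S : Scheme.{u}} (f : X ⟶ S) (x : X)
    (W : X.Opens) (hxW : x ∈ W) (hW : Smooth (W.ι ≫ f))
    (hne : ¬ maximalIdeal (X.presheaf.stalk x) ≤
      (maximalIdeal (S.presheaf.stalk (f x))).map (f.stalkMap x).hom ⊔ maximalIdeal (X.presheaf.stalk x) ^ 2)
    (hsep : letI := (f.residueFieldMap x).hom.toAlgebra
      Algebra.FormallySmooth (S.residueField (f x)) (X.residueField x)) :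
    ∃ (U : X.Opens) (hU : IsAffineOpen U) (hx : x ∈ U) (h' : Γ(X, U)), h' ∈ nonZeroDivisors Γ(X, U) ∧
      X.presheaf.germ U x hx h' ∈ IsLocalRing.maximalIdeal ↑(X.presheaf.stalk x) ∧
      Smooth (Spec.map (CommRingCat.ofHom (Ideal.Quotient.mk (Ideal.span {h'}))) ≫ hU.fromSpec ≫ f) := by
  letI := (f.stalkMap x).hom.toAlgebra
  haveI : IsLocalHom (algebraMap ↑(S.presheaf.stalk (f x)) ↑(X.presheaf.stalk x)) :=
    inferInstanceAs (IsLocalHom (f.stalkMap x).hom)
  haveI : Algebra.FormallySmooth (ResidueField ↑(S.presheaf.stalk (f x))) (ResidueField ↑(X.presheaf.stalk x)) := by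
    have e : (inferInstance : Algebra (ResidueField ↑(S.presheaf.stalk (f x))) (ResidueField ↑(X.presheaf.stalk x))) =
        (f.residueFieldMap x).hom.toAlgebra := by
      refine Algebra.algebra_ext _ _ fun r => ?_
      obtain ⟨r, rfl⟩ := residue_surjective r
      rfl
    simp only [inferInstance] at e
    rw [e]
    exact hsep
  obtain ⟨h, hm, hd⟩ := exists_dbar_ne_zero_of_formallySmooth ↑(S.presheaf.stalk (f x)) ↑(X.presheaf.stalk x) hne
  obtain ⟨U, hU, hxU, h', e, hn, hs⟩ := exists_smooth_divisor f x W hxW hW h hd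
  exact ⟨U, hU, hxU, h', hn, e ▸ hm, hs⟩

end Groth.L24.SmoothDivisor
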