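import Groth.Agent.L24.SmoothDivisor.Algebra
import Groth.Agent.L24.SmoothDivisor.Residue
import Mathlib.RingTheory.Unramified.Field

/-!
Coordinates vanishing at a prime with separable residue field and the étale slice they cut out.
-/

set_option autoImplicit false
set_option maxSynthPendingDepth 3
set_option linter.style.haveILetI false
universe u

noncomputable section

namespace Groth.L24.SmoothDivisor

open KaehlerDifferential IsLocalRing
open scoped TensorProduct
open Groth.L05.SmoothCrit (dbar)

/-- At a prime with unramified residue field, elements of the prime give coordinates. -/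
theorem exists_coordinates_mem (A B R : Type u) [CommRing A] [CommRing B] [CommRing R] [IsLocalRing R]
    [Algebra A B] [Algebra B R] [Algebra A R] [IsScalarTower A B R] [Algebra.EssFiniteType A B]
    (q : Ideal B) [q.IsPrime] [IsLocalization.AtPrime R q] [Algebra.FormallySmooth A R]
    [Algebra.FormallyUnramified A (ResidueField R)] :
    ∃ (m : ℕ) (c : Fin m → B), (∀ i, c i ∈ q) ∧
      LinearIndependent R (fun i => D A R (algebraMap B R (c i))) ∧
      Submodule.span R (Set.range fun i => D A R (algebraMap B R (c i))) = ⊤ := by
  classical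
  haveI : Algebra.EssFiniteType B R := Algebra.EssFiniteType.of_isLocalization _ q.primeCompl
  haveI : Algebra.EssFiniteType A R := Algebra.EssFiniteType.comp A B R
  let W := ResidueField R ⊗[R] Ω[R⁄A]
  let v : q → W := fun b => dbar A R (algebraMap B R b.1)
  have hvspan : Submodule.span (ResidueField R) (Set.range v) = ⊤ := by
    refine eq_top_iff.mpr fun w _ => ?_
    obtain ⟨y, rfl⟩ := (exact_kerCotangentToTensor_mapBaseChange A R (ResidueField R) residue_surjective w).mp
      (Subsingleton.elim _ _)
    obtain ⟨⟨a, ha⟩, rfl⟩ := Ideal.toCotangent_surjective _ y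
    rw [kerCotangentToTensor_toCotangent]
    have ham : a ∈ maximalIdeal R := (residue_eq_zero_iff a).mp ha
    suffices h : ∀ x ∈ Submodule.span R (algebraMap B R '' (q : Set B)),
        dbar A R x ∈ Submodule.span (ResidueField R) (Set.range v) by
      rw [← IsLocalization.AtPrime.map_eq_maximalIdeal q R] at ham
      exact h a ham
    intro x hx
    induction hx using Submodule.span_induction with
    | mem x hx =>
      obtain ⟨b, hb, rfl⟩ := hx
      exact Submodule.subset_span ⟨⟨b, hb⟩, rfl⟩
    | zero => simp [Groth.L05.SmoothCrit.dbar]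
    | add x y _ _ hx hy => rw [Groth.L05.SmoothCrit.dbar_add]; exact Submodule.add_mem _ hx hy
    | smul t x hmem hx =>
      have hxm : residue R x = 0 := by
        refine (residue_eq_zero_iff x).mpr ?_
        rw [← IsLocalization.AtPrime.map_eq_maximalIdeal q R]
        exact hmem
      rw [smul_eq_mul, Groth.L05.SmoothCrit.dbar_mul, hxm, zero_smul, add_zero]
      exact Submodule.smul_mem _ _ hx
  obtain ⟨bs, hbs, -, hspan, hbli⟩ := exists_linearIndepOn_extension (linearIndepOn_empty (ResidueField R) (id : W → W))
    (t := Set.range v) (Set.empty_subset _)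
  rw [Set.image_id, Set.image_id] at hspan
  have htop : Submodule.span (ResidueField R) bs = ⊤ :=
    top_le_iff.mp (hvspan.ge.trans (Submodule.span_le.mpr hspan))
  haveI : Fintype bs := hbli.linearIndependent.setFinite.fintype
  let m := Fintype.card ↥bs
  let e : Fin m ≃ ↥bs := (Fintype.equivFin _).symm
  choose b' hb' using fun i : Fin m => hbs (e i).2
  have hve : v ∘ b' = Subtype.val ∘ e := funext hb'
  have hcli : LinearIndependent (ResidueField R) (v ∘ b') := by
    rw [hve]; exact hbli.linearIndependent.comp e e.injective
  let w : Fin m → Ω[R⁄A] := fun i => D A R (algebraMap B R (b' i).1)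
  let bas : Module.Basis (Fin m) (ResidueField R) W := Module.Basis.mk hcli (by
    rw [hve, Set.range_comp, e.range_eq_univ, Set.image_univ, Subtype.range_coe, htop])
  have hwspan : Submodule.span R (Set.range w) = ⊤ :=
    IsLocalRing.span_eq_top_of_tmul_eq_basis w bas fun i => by
      rw [Module.Basis.mk_apply]; rfl
  haveI : Module.Free R (Ω[R⁄A]) := Module.free_of_flat_of_isLocalRing
  have hwli : LinearIndependent R w := by
    refine linearIndependent_of_top_le_span_of_card_eq_finrank hwspan.ge ?_
    rw [← Module.finrank_baseChange (R := ResidueField R) (S := R) (M' := Ω[R⁄A]),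
      Module.finrank_eq_card_basis bas]
  exact ⟨m, fun i => (b' i).1, fun i => (b' i).2, hwli, hwspan⟩

theorem ker_aeval_zero (A : Type u) [CommRing A] (σ : Type) :
    RingHom.ker (MvPolynomial.aeval (R := A) (fun _ : σ => (0 : A))) =
      Ideal.span (Set.range MvPolynomial.X) := by
  refine le_antisymm (fun p hp => ?_) (Ideal.span_le.mpr ?_)
  · have key : ∀ q : MvPolynomial σ A, q - MvPolynomial.C (MvPolynomial.aeval (fun _ : σ => (0 : A)) q) ∈
        Ideal.span (Set.range MvPolynomial.X) := by
      intro q
      induction q using MvPolynomial.induction_on with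
      | C a => simp
      | add p q hp hq =>
        rw [map_add, map_add, add_sub_add_comm]
        exact add_mem hp hq
      | mul_X p i hp =>
        rw [map_mul, MvPolynomial.aeval_X, mul_zero, map_zero, sub_zero]
        exact Ideal.mul_mem_left _ _ (Ideal.subset_span ⟨i, rfl⟩)
    have := key p
    rwa [show MvPolynomial.aeval (fun _ : σ => (0 : A)) p = 0 from hp, map_zero, sub_zero] at this
  · rintro _ ⟨i, rfl⟩
    show MvPolynomial.aeval (fun _ : σ => (0 : A)) (MvPolynomial.X i) = 0
    simp

/-- The étale slice through a prime with unramified residue field. -/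
theorem exists_etale_slice (A B R : Type u) [CommRing A] [CommRing B] [CommRing R] [IsLocalRing R]
    [Algebra A B] [Algebra B R] [Algebra A R] [IsScalarTower A B R] [Algebra.Smooth A B]
    (q : Ideal B) [q.IsPrime] [IsLocalization.AtPrime R q]
    [Algebra.FormallyUnramified A (ResidueField R)] :
    ∃ (f : B) (J : Ideal B), f ∉ q ∧ J ≤ q ∧
      ((Ideal.Quotient.mk (J.map (algebraMap B (Localization.Away f)))).comp
        ((algebraMap B (Localization.Away f)).comp (algebraMap A B))).Etale := by
  haveI : Algebra.FormallyEtale B R := Algebra.FormallyEtale.of_isLocalization q.primeCompl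
  haveI : Algebra.FormallySmooth A R := Algebra.FormallySmooth.comp A B R
  obtain ⟨m, c, hcq, hli, hspan⟩ := exists_coordinates_mem A B R q
  let P := MvPolynomial (Fin m) A
  letI : Algebra P B := (MvPolynomial.aeval c).toRingHom.toAlgebra
  haveI : IsScalarTower A P B := IsScalarTower.of_algebraMap_eq fun a => ((MvPolynomial.aeval c).commutes a).symm
  letI : Algebra P R := ((algebraMap B R).comp (algebraMap P B)).toAlgebra
  haveI : IsScalarTower P B R := IsScalarTower.of_algebraMap_eq fun _ => rfl
  haveI : IsScalarTower A P R := IsScalarTower.of_algebraMap_eq fun a => by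
    rw [IsScalarTower.algebraMap_apply P B R, ← IsScalarTower.algebraMap_apply A P B,
      ← IsScalarTower.algebraMap_apply A B R]
  have hX : (fun i => D A R (algebraMap P R (MvPolynomial.X i))) = fun i => D A R (algebraMap B R (c i)) :=
    funext fun i => by
      rw [IsScalarTower.algebraMap_apply P B R]
      exact congrArg (fun x => D A R (algebraMap B R x)) (MvPolynomial.aeval_X c i)
  haveI : Algebra.FormallyEtale P R := (Groth.L05.Kaehler.formallyEtale_mvPolynomial_iff (Fin m) A R).mpr
    (by rw [hX]; exact ⟨hli, hspan⟩)
  haveI : Algebra.IsEtaleAt P q := Algebra.FormallyEtale.of_equiv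
    ((IsLocalization.algEquiv q.primeCompl R (Localization.AtPrime q)).restrictScalars P)
  haveI : Algebra.FinitePresentation P B :=
    Algebra.FinitePresentation.of_restrict_scalars_finitePresentation A P B
  obtain ⟨f, hf, het⟩ := Algebra.exists_etale_of_isEtaleAt (R := P) q
  refine ⟨f, Ideal.span (Set.range c), hf, Ideal.span_le.mpr (Set.range_subset_iff.mpr hcq), ?_⟩
  let T := Localization.Away f
  let I : Ideal P := Ideal.span (Set.range MvPolynomial.X)
  have hJ : (Ideal.span (Set.range c)).map (algebraMap B T) = I.map (algebraMap P T) := by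
    rw [Ideal.map_span, Ideal.map_span, ← Set.range_comp, ← Set.range_comp]
    refine congrArg (fun g => Ideal.span (Set.range g)) (funext fun i => ?_)
    show algebraMap B T (c i) = algebraMap P T (MvPolynomial.X i)
    rw [IsScalarTower.algebraMap_apply P B T]
    exact congrArg _ (MvPolynomial.aeval_X c i).symm
  haveI : Algebra.Etale A (P ⧸ I) := by
    have hsurj : Function.Surjective (MvPolynomial.aeval (fun _ : Fin m => (0 : A)) : P →ₐ[A] A) :=
      fun a => ⟨MvPolynomial.C a, MvPolynomial.aeval_C _ a⟩
    exact Algebra.Etale.of_equiv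
      ((Ideal.quotientKerAlgEquivOfSurjective hsurj).symm.trans (Ideal.quotientEquivAlgOfEq A (ker_aeval_zero A (Fin m))))
  haveI : Algebra.Etale (P ⧸ I) (T ⧸ I.map (algebraMap P T)) :=
    Algebra.Etale.of_equiv (Algebra.TensorProduct.quotIdealMapEquivQuotTensor T I).symm
  haveI : IsScalarTower A (P ⧸ I) (T ⧸ I.map (algebraMap P T)) := IsScalarTower.to₁₃₄ A P (P ⧸ I) _
  haveI : Algebra.Etale A (T ⧸ I.map (algebraMap P T)) := Algebra.Etale.comp A (P ⧸ I) _
  rw [hJ]
  have h : (algebraMap A (T ⧸ I.map (algebraMap P T))).Etale := RingHom.etale_algebraMap.mpr inferInstance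
  rw [IsScalarTower.algebraMap_eq A T (T ⧸ I.map (algebraMap P T)), IsScalarTower.algebraMap_eq A B T] at h
  exact h

end Groth.L24.SmoothDivisor
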